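import Mathlib
import Groth.Agent.Lib.FlatFP.TorShift

/-!
# `Tor` of the residue field of a node

Two elements `x, y` of a ring with `ann x = (y)`, `ann y = (x)` and `(x) ∩ (y) = 0`.
-/

set_option autoImplicit false
universe u

open CategoryTheory TensorProduct

namespace GrothLib.NodeTor

section PdTor

variable {R : Type u} [CommRing R]

/-- Projective dimension bounds the non-vanishing of `Tor`. -/
theorem isZero_tor_of_pdLT : ∀ (n : ℕ) (X : ModuleCat.{u} R), HasProjectiveDimensionLT X (n + 1) →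
    ∀ (N : ModuleCat.{u} R) (i : ℕ), n ≤ i →
      Limits.IsZero (((Tor (ModuleCat.{u} R) (i + 1)).obj X).obj N) := by
  intro n
  induction n with
  | zero =>
    intro X h N i _
    have hP : Projective X := projective_iff_hasProjectiveDimensionLT_one.2 h
    haveI : Module.Projective R X := (IsProjective.iff_projective X).2 hP
    exact GrothLib.FlatFP.isZero_tor_succ_of_flat X N i
  | succ n ih =>
    intro X h N i hi
    obtain ⟨j, rfl⟩ : ∃ j, i = j + 1 := ⟨i - 1, by omega⟩
    let f : (X →₀ R) →ₗ[R] X := Finsupp.linearCombination R id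
    have hf : Function.Surjective f := fun z => ⟨Finsupp.single z 1, by simp [f]⟩
    have hS := LinearMap.shortExact_shortComplexKer (f := f) hf
    have hP : Projective (f.shortComplexKer).X₂ :=
      (IsProjective.iff_projective (R := R) (X →₀ R)).1 inferInstance
    haveI : Module.Flat R (f.shortComplexKer).X₂ := (inferInstance : Module.Flat R (X →₀ R))
    have hK : HasProjectiveDimensionLT (f.shortComplexKer).X₁ (n + 1) :=
      (hS.hasProjectiveDimensionLT_X₃_iff n hP).1 h
    exact (GrothLib.FlatFP.isZero_tor_succ_iff (f.shortComplexKer) hS N j).2 (ih _ hK N j (by omega))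

end PdTor

/-- The data of a node. -/
structure Node (R : Type u) [CommRing R] where
  x : R
  y : R
  mul_eq : x * y = 0
  ann_x : ∀ a, x * a = 0 → ∃ c, a = y * c
  ann_y : ∀ a, y * a = 0 → ∃ c, a = x * c
  disjoint : ∀ a b, x * a + y * b = 0 → x * a = 0

variable {R : Type u} [CommRing R] (nd : Node R)

/-- the ideal of the origin -/
abbrev Node.I : Ideal R := Ideal.span {nd.x, nd.y}

/-- the two multipliers of the `n`-th diagonal differential -/
def c (n : ℕ) : R × R := if Even n then (nd.y, nd.x) else (nd.x, nd.y)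

/-- the terms -/
noncomputable def X : ℕ → ModuleCat.{u} R
  | 0 => ModuleCat.of R R
  | _ + 1 => ModuleCat.of R (R × R)

/-- diagonal map -/
def diag (p : R × R) : (R × R) →ₗ[R] (R × R) :=
  ((LinearMap.mul R R p.1).comp (LinearMap.fst R R R)).prod ((LinearMap.mul R R p.2).comp (LinearMap.snd R R R))

theorem diag_apply (p v : R × R) : diag p v = (p.1 * v.1, p.2 * v.2) := rfl

/-- the first differential -/
def first : (R × R) →ₗ[R] R :=
  (LinearMap.mul R R nd.x).coprod (LinearMap.mul R R nd.y)

theorem first_apply (v : R × R) : first nd v = nd.x * v.1 + nd.y * v.2 := rfl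

/-- the differentials -/
noncomputable def D : ∀ n, X (R := R) (n + 1) ⟶ X (R := R) n
  | 0 => ModuleCat.ofHom (first nd)
  | n + 1 => ModuleCat.ofHom (diag (c nd n))

theorem c_succ (n : ℕ) : c nd (n + 1) = ((c nd n).2, (c nd n).1) := by
  unfold c
  by_cases h : Even n <;> simp [h, Nat.even_add_one]

theorem c_mul (n : ℕ) : (c nd n).1 * (c nd n).2 = 0 := by
  unfold c
  by_cases h : Even n <;> simp [h, nd.mul_eq, mul_comm nd.y nd.x]

theorem c_ann (n : ℕ) (a : R) :
    ((c nd n).1 * a = 0 → ∃ b, a = (c nd n).2 * b) ∧ ((c nd n).2 * a = 0 → ∃ b, a = (c nd n).1 * b) := by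
  unfold c
  by_cases h : Even n
  · simp only [h, if_true]; exact ⟨nd.ann_y a, nd.ann_x a⟩
  · simp only [h, if_false]; exact ⟨nd.ann_x a, nd.ann_y a⟩

/-- the complex -/
noncomputable def cx : ChainComplex (ModuleCat.{u} R) ℕ :=
  ChainComplex.of X (D nd) fun n => by
    cases n with
    | zero =>
      refine ModuleCat.hom_ext (LinearMap.ext fun v => ?_)
      show first nd (diag (c nd 0) v) = 0
      rw [first_apply, diag_apply]
      simp only [c, Even.zero, if_true]
      linear_combination (v.1 + v.2) * nd.mul_eq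
    | succ n =>
      refine ModuleCat.hom_ext (LinearMap.ext fun v => ?_)
      show diag (c nd n) (diag (c nd (n + 1)) v) = 0
      rw [diag_apply, diag_apply, c_succ]
      refine Prod.ext ?_ ?_
      · show (c nd n).1 * ((c nd n).2 * _) = (0 : R)
        rw [← mul_assoc, c_mul, zero_mul]
      · show (c nd n).2 * ((c nd n).1 * _) = (0 : R)
        rw [← mul_assoc, mul_comm (c nd n).2, c_mul, zero_mul]

theorem cx_d (n : ℕ) : (cx nd).d (n + 1) n = D nd n := ChainComplex.of_d X (D nd) n

/-- the module at the origin -/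
abbrev kap : ModuleCat.{u} R := ModuleCat.of R (R ⧸ nd.I)

theorem cx_d_aug : (cx nd).d 1 0 ≫ (ModuleCat.ofHom nd.I.mkQ : X (R := R) 0 ⟶ kap nd) = 0 := by
  rw [cx_d]
  refine ModuleCat.hom_ext (LinearMap.ext fun v => ?_)
  exact (Submodule.Quotient.mk_eq_zero _).2 (Ideal.mem_span_pair.2 ⟨v.1, v.2, by
    show v.1 * nd.x + v.2 * nd.y = first nd v
    rw [first_apply]; ring⟩)

/-- the resolution -/
noncomputable def res : ProjectiveResolution (kap nd) where
  complex := cx nd
  projective i := by
    cases i with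
    | zero => exact (IsProjective.iff_projective (R := R) R).1 inferInstance
    | succ i => exact (IsProjective.iff_projective (R := R) (R × R)).1 inferInstance
  π := (ChainComplex.toSingle₀Equiv _ _).symm ⟨ModuleCat.ofHom nd.I.mkQ, cx_d_aug nd⟩
  quasiIso := ⟨fun i => by
    cases i with
    | zero =>
      rw [ChainComplex.quasiIsoAt₀_iff, ShortComplex.quasiIso_iff_of_zeros']
      · refine ⟨(ShortComplex.moduleCat_exact_iff _).2 fun v hv => ?_, (ModuleCat.epi_iff_surjective _).2 ?_⟩
        · have hv' : nd.I.mkQ v = 0 := by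
            have h := hv
            simp [ChainComplex.toSingle₀Equiv_symm_apply_f_zero] at h
            exact h
          obtain ⟨a, b, hab⟩ := Ideal.mem_span_pair.1 ((Submodule.Quotient.mk_eq_zero _).1 hv')
          refine ⟨((a, b) : R × R), (congrArg (fun f => f.hom ((a, b) : R × R)) (cx_d nd 0)).trans ?_⟩
          show nd.x * a + nd.y * b = v
          rw [← hab]; ring
        · intro z
          obtain ⟨v, hv⟩ := Submodule.mkQ_surjective nd.I z
          refine ⟨v, ?_⟩
          simp [ChainComplex.toSingle₀Equiv_symm_apply_f_zero]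
          exact hv
      · exact (cx nd).shape _ _ (by simp)
      · rfl
      · rfl
    | succ i =>
      rw [quasiIsoAt_iff_exactAt' _ _ (HomologicalComplex.exactAt_single_obj _ _ _ _ (by simp)),
        HomologicalComplex.exactAt_iff' _ (i + 1 + 1) (i + 1) i (by simp) (by simp)]
      refine (ShortComplex.moduleCat_exact_iff _).2 fun v hv => ?_
      have hv' : (D nd i).hom v = 0 := (congrArg (fun f => f.hom v) (cx_d nd i)).symm.trans hv
      suffices h : ∃ w : R × R, diag (c nd i) w = v by
        obtain ⟨w, hw⟩ := h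
        exact ⟨w, (congrArg (fun f => f.hom w) (cx_d nd (i + 1))).trans hw⟩
      cases i with
      | zero =>
        obtain ⟨v₁, v₂⟩ := v
        change nd.x * v₁ + nd.y * v₂ = 0 at hv'
        have h₁ := nd.disjoint _ _ hv'
        obtain ⟨a, rfl⟩ := nd.ann_x _ h₁
        obtain ⟨b, rfl⟩ := nd.ann_y v₂ (by rwa [h₁, zero_add] at hv')
        exact ⟨(a, b), by simp [diag_apply, c]⟩
      | succ i =>
        obtain ⟨v₁, v₂⟩ := v
        change ((c nd i).1 * v₁, (c nd i).2 * v₂) = (0 : R × R) at hv'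
        obtain ⟨h₁, h₂⟩ := Prod.mk_eq_zero.1 hv'
        obtain ⟨a, rfl⟩ := (c_ann nd i v₁).1 h₁
        obtain ⟨b, rfl⟩ := (c_ann nd i v₂).2 h₂
        exact ⟨(a, b), by rw [c_succ]; rfl⟩⟩

theorem smul_kap (r : R) (hr : r ∈ nd.I) (m : kap nd) : r • m = 0 := by
  obtain ⟨a, rfl⟩ := Submodule.Quotient.mk_surjective _ m
  exact (Submodule.Quotient.mk_eq_zero _).2 (nd.I.mul_mem_right a hr)

theorem x_mem : nd.x ∈ nd.I := Ideal.subset_span (Or.inl rfl)
theorem y_mem : nd.y ∈ nd.I := Ideal.subset_span (Or.inr rfl)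

theorem c_mem (n : ℕ) : (c nd n).1 ∈ nd.I ∧ (c nd n).2 ∈ nd.I := by
  unfold c
  by_cases h : Even n <;> simp [h, x_mem, y_mem]

/-- the complex computing `Tor` -/
noncomputable abbrev tcx : ChainComplex (ModuleCat.{u} R) ℕ :=
  ((GrothLib.FlatFP.tensorL (kap nd)).mapHomologicalComplex (ComplexShape.down ℕ)).obj (cx nd)

theorem tcx_d (n : ℕ) : (tcx nd).d (n + 1) n = 0 := by
  refine ModuleCat.hom_ext (TensorProduct.ext' fun m v => ?_)
  show m ⊗ₜ[R] ((cx nd).d (n + 1) n).hom v = 0
  rw [congrArg (fun f => f.hom v) (cx_d nd n)]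
  cases n with
  | zero =>
    show m ⊗ₜ[R] (nd.x • (v : R × R).1 + nd.y • (v : R × R).2 : R) = 0
    rw [tmul_add, ← smul_tmul, ← smul_tmul, smul_kap nd _ (x_mem nd), smul_kap nd _ (y_mem nd),
      zero_tmul, zero_tmul, add_zero]
  | succ n =>
    show m ⊗ₜ[R] (((c nd n).1 * (v : R × R).1, (c nd n).2 * (v : R × R).2) : R × R) = 0
    rw [show (((c nd n).1 * (v : R × R).1, (c nd n).2 * (v : R × R).2) : R × R) =
        (c nd n).1 • (((v : R × R).1, 0) : R × R) + (c nd n).2 • ((0, (v : R × R).2) : R × R) by simp,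
      tmul_add, ← smul_tmul, ← smul_tmul, smul_kap nd _ (c_mem nd n).1, smul_kap nd _ (c_mem nd n).2,
      zero_tmul, zero_tmul, add_zero]

/-- `Tor_{i+1}(κ, κ) ≅ κ × κ` -/
theorem nonempty_tor_equiv (i : ℕ) :
    Nonempty (((((Tor (ModuleCat.{u} R) (i + 1)).obj (kap nd)).obj (kap nd)) : Type u) ≃ₗ[R]
      ((kap nd) × (kap nd))) := by
  let K := tcx nd
  have hf : (K.sc (i + 1)).f = 0 := by
    show K.d ((ComplexShape.down ℕ).prev (i + 1)) (i + 1) = 0
    rw [show (ComplexShape.down ℕ).prev (i + 1) = i + 2 by simp]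
    exact tcx_d nd (i + 1)
  have hg : (K.sc (i + 1)).g = 0 := by
    show K.d (i + 1) ((ComplexShape.down ℕ).next (i + 1)) = 0
    rw [show (ComplexShape.down ℕ).next (i + 1) = i by simp]
    exact tcx_d nd i
  let e₁ := ((res nd).isoLeftDerivedObj (GrothLib.FlatFP.tensorL (kap nd)) (i + 1)).toLinearEquiv
  let e₂ := (ShortComplex.HomologyData.ofZeros (K.sc (i + 1)) hf hg).left.homologyIso.toLinearEquiv
  let e₃ : ((kap nd) ⊗[R] (R × R)) ≃ₗ[R] (kap nd) × (kap nd) :=
    (TensorProduct.prodRight R R (kap nd) R R).trans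
      ((TensorProduct.rid R (kap nd)).prodCongr (TensorProduct.rid R (kap nd)))
  exact ⟨(e₁.trans e₂).trans e₃⟩

theorem length_tor (hI : nd.I.IsMaximal) (i : ℕ) :
    Module.length R (((Tor (ModuleCat.{u} R) (i + 1)).obj (kap nd)).obj (kap nd) : Type u) = 2 := by
  rw [(nonempty_tor_equiv nd i).some.length_eq, Module.length_prod]
  have h1 : Module.length R (kap nd) = 1 := Module.length_eq_one_iff.2 (isSimpleModule_iff_isCoatom.2 hI.out)
  rw [h1]; norm_num

theorem not_pdLT (hI : nd.I.IsMaximal) (n : ℕ) : ¬ HasProjectiveDimensionLT (kap nd) n := by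
  intro h
  have h' : HasProjectiveDimensionLT (kap nd) (n + 1) := hasProjectiveDimensionLT_of_ge _ n _ (by omega)
  have hz := ModuleCat.isZero_iff_subsingleton.1 (isZero_tor_of_pdLT n _ h' (kap nd) n le_rfl)
  have h2 := length_tor nd hI n
  rw [Module.length_eq_zero_iff.2 hz] at h2
  simp at h2

end GrothLib.NodeTor
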